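import Cfsg.Agent.Gag.Bas2
import Cfsg.Agent.Gag.OA
import Cfsg.Agent.S3099
import Cfsg.Agent.S0205

set_option autoImplicit false
set_option linter.unusedSectionVars false
open Matrix MatrixGroups Cfsg.Agent.Perm.Fpf Cfsg.Agent.PLocal

namespace Cfsg.Agent.Gag

universe u v
variable {p : ℕ} {G : Type u} {V : Type v} [Group G] [Finite G] [AddCommGroup V] [Finite V] [DistribMulAction G V]

/-- `S` from `FGS.FrobCompl.exists_perfect_normal`; `h.sub S`, `oa_core`. `oddCore S` is solvable (Feit-Thompson), so central (`oa_central`),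
a 2-group (`oa_two`) of odd order: trivial. `PRankLE 2 1 S`: an elementary abelian 2-subgroup has order prime to `p`, so is cyclic
(`abCyc`). `|S|` is even (Feit-Thompson; `S ≠ ⊥` perfect is not solvable). `S3099.result`, `QuotientGroup.quotientBot`.
In the last case `|S| = 2 * 2520`, and the map is `S → S / Z(S) ≃ A₇`. -/
theorem ob (h : Sr p G V) (hO : pCore p G = ⊥) (hp : p ≠ 2) (hns : ¬ Group.IsSolvable G) :
    ∃ S : Subgroup G, S.Normal ∧ Group.IsPerfect S ∧ S ≠ ⊥ ∧
      ((∃ (F : Type) (_ : Field F) (_ : Fintype F), Odd (Fintype.card F) ∧ 3 < Fintype.card F ∧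
          Nonempty (S ≃* SL(2, F))) ∨
        (Nat.card S = 5040 ∧ ∃ f : S →* alternatingGroup (Fin 7), Function.Surjective f)) := by
  obtain ⟨S, hSn, hS0, hSp⟩ := FGS.FrobCompl.exists_perfect_normal hns
  haveI := hSn
  haveI : Fact p.Prime := ⟨h.prime⟩
  have hP : Group.IsPerfect S := Subgroup.isPerfect_iff.2 hSp
  have hS := h.sub S
  have hOS : pCore p S = ⊥ := oa_core hO S
  have hodd : (Nat.card (oddCore S)).Coprime 2 := Grp.pPrimeCore_coprime 2 S
  have hcore : oddCore S = ⊥ := by
    have h1 : Group.IsSolvable (oddCore S) := S0205.result (Nat.coprime_two_right.1 hodd)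
    have h2 : oddCore S ≤ Subgroup.center S := oa_central hS hOS hP _ h1
    have h3 : IsPGroup 2 (oddCore S) := (oa_two hS hOS hP).to_le h2
    obtain ⟨k, hk⟩ := IsPGroup.iff_card.1 h3
    rw [hk] at hodd
    rw [← Subgroup.card_eq_one, hk]
    rcases k with _ | k
    · rfl
    · exact absurd (Nat.Coprime.eq_one_of_dvd hodd.symm (dvd_pow_self 2 (Nat.succ_ne_zero k))) (by decide)
  have hrk : PRankLE 2 1 S := by
    intro A hA h2
    have hA2 : IsPGroup 2 A := fun a => ⟨1, Subtype.ext (by simpa using h2 a a.2)⟩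
    obtain ⟨k, hk⟩ := IsPGroup.iff_card.1 hA2
    have hc : (Nat.card A).Coprime p := by
      rw [hk]
      exact Nat.Coprime.pow_left _ ((Nat.coprime_primes Nat.prime_two h.prime).2 hp.symm)
    haveI := hA
    have hcyc : IsCyclic (⊤ : Subgroup A) := hS.abCyc hc ⊤ inferInstance
    haveI : IsCyclic A := isCyclic_of_surjective _ (Subgroup.topEquiv (G := A)).surjective
    rw [← IsCyclic.exponent_eq_card, pow_one]
    exact Nat.le_of_dvd two_pos (Monoid.exponent_dvd_of_forall_pow_eq_one
      fun a => Subtype.ext (by simpa using h2 a a.2))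
  have hev : Even (Nat.card S) := by
    rw [← Nat.not_odd_iff_even]
    intro ho
    haveI : Nontrivial S := (Subgroup.nontrivial_iff_ne_bot S).2 hS0
    exact Group.IsPerfect.not_isSolvable (G := S) (S0205.result ho)
  have e0 : S ≃* (S ⧸ oddCore S) :=
    ((QuotientGroup.quotientMulEquivOfEq hcore).trans QuotientGroup.quotientBot).symm
  refine ⟨S, hSn, hP, hS0, ?_⟩
  rcases S3099.result hP hrk hev with ⟨F, i1, i2, ho, h3, ⟨e⟩⟩ | ⟨hc, ⟨e⟩, -⟩
  · exact Or.inl ⟨F, i1, i2, ho, h3, ⟨e0.trans e⟩⟩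
  · refine Or.inr ⟨?_, e.toMonoidHom.comp ((QuotientGroup.mk' _).comp e0.toMonoidHom), ?_⟩
    · rw [Nat.card_congr e0.toEquiv,
        Subgroup.card_eq_card_quotient_mul_card_subgroup (Subgroup.center (S ⧸ oddCore S)), hc,
        Nat.card_congr e.toEquiv, nat_card_alternatingGroup]
      simp [Nat.factorial]
    · exact e.surjective.comp ((QuotientGroup.mk'_surjective _).comp e0.surjective)

end Cfsg.Agent.Gag
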