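import Cfsg.Agent.Gag.Def
import Cfsg.Agent.Gag.Rad
import Cfsg.Agent.Gag.Zen
import Cfsg.Agent.S0483
import Cfsg.Agent.S3099
import Cfsg.Agent.S0205
import Cfsg.Agent.Class.SL2Cover

set_option autoImplicit false
set_option linter.unusedSectionVars false
open Matrix MatrixGroups Cfsg.Agent.Perm.Fpf Cfsg.Agent.PLocal.SL2Nat

namespace Cfsg.Agent.Gag

universe u v
variable {p : ℕ} {G : Type u} {V : Type v} [Group G] [Finite G] [AddCommGroup V] [Finite V] [DistribMulAction G V]

/-- `G` is not solvable so has even order (odd order theorem, in the library); a Sylow 2-subgroup `Q` is cyclic (impossible: Burnside, perfect) or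
`QuaternionGroup (2^m)` (`abCyc`, `isCyclic_or`). Involutions act as `-1` (`invol`, `ρ_inj`): there is just one, `z`, central. `X = G / ⟨z⟩` is perfect with Sylow
`DihedralGroup (2^m)`; `S0483.result`. The preimage of `O(X)` is solvable and normal, so central (`rad` with `L = ⊤`), so a 2-group (`zen`): `O(X) = ⊥`.
Then `Class.Dickson.nonempty_equiv_SL2_of_cover`. -/
theorem odd1 (h : Sr p G V) (h2 : p ≠ 2) (hO : pCore p G = ⊥) [Nontrivial G] (hp : commutator G = ⊤) :
    (∃ (F : Type) (_ : Field F) (_ : Fintype F), Odd (Fintype.card F) ∧ 3 < Fintype.card F ∧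
      Nonempty (G ≃* SL(2, F))) ∨
    ∃ σ : G →* alternatingGroup (Fin 7), Function.Surjective σ ∧ Nat.card σ.ker = 2 := by
  have hP : Group.IsPerfect G := ⟨hp⟩
  have h1 : PRankLE 2 1 G := fun A hA h3 => by
    have pA : IsPGroup 2 A := fun a => ⟨1, Subtype.ext (by simpa using h3 a a.2)⟩
    obtain ⟨k, hk⟩ := IsPGroup.iff_card.1 pA
    haveI : IsCyclic (⊤ : Subgroup A) := h.abCyc (K := A)
      (by rw [hk]; exact ((Nat.coprime_primes Nat.prime_two h.prime).2 h2.symm).pow_left _) ⊤ inferInstance
    haveI : IsCyclic A := isCyclic_of_surjective _ (Subgroup.topEquiv (G := A)).surjective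
    rw [← IsCyclic.exponent_eq_card]
    exact Nat.le_of_dvd (by norm_num) (Monoid.exponent_dvd_of_forall_pow_eq_one fun a =>
      Subtype.ext (by simpa using h3 a a.2))
  have he : Even (Nat.card G) := Nat.not_odd_iff_even.1 fun ho =>
    not_solvable_of_perfect hp (S0205.result ho)
  have ho : Odd (Nat.card (oddCore G)) := Inv.odd_card_pPrimeCore_two G
  have hc : oddCore G = ⊥ := by
    have h3 := rad h hO (L := ⊤) (N := oddCore G) hp (S0205.result ho)
    have h4 : oddCore G ≤ Subgroup.center G := fun x hx =>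
      Subgroup.mem_center_iff.2 fun g => (Subgroup.mem_centralizer_iff.1 (h3 (Subgroup.mem_top g)) x hx).symm
    obtain ⟨k, hk⟩ := IsPGroup.iff_card.1 ((zen h hO hp).1.to_le h4)
    rw [← Subgroup.card_eq_one]
    rw [hk] at ho ⊢
    rcases k with _ | k
    · rfl
    · exact absurd ho (by rw [pow_succ]; simp)
  have e : G ≃* G ⧸ oddCore G :=
    ((QuotientGroup.quotientMulEquivOfEq hc).trans QuotientGroup.quotientBot).symm
  rcases S3099.result hP h1 he with ⟨F, i1, i2, a, b, ⟨f⟩⟩ | hh
  · exact .inl ⟨F, i1, i2, a, b, ⟨e.trans f⟩⟩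
  · obtain ⟨s2, ⟨f⟩, -⟩ := hh
    refine .inr ⟨f.toMonoidHom.comp ((QuotientGroup.mk' _).comp e.toMonoidHom),
      f.surjective.comp ((QuotientGroup.mk'_surjective _).comp e.surjective), ?_⟩
    refine Eq.trans ?_ s2
    rw [MonoidHom.ker_comp_of_injective _ _ f.injective, ← MonoidHom.comap_ker, QuotientGroup.ker_mk']
    exact Nat.card_congr (e.subgroupMap _ |>.trans (MulEquiv.subgroupCongr
      (Subgroup.map_comap_eq_self_of_surjective e.surjective _))).toEquiv

end Cfsg.Agent.Gag
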